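import Cfsg.Agent.Lib.BlockRank.Watanabe.Count
import Cfsg.Agent.Lib.BlockStar.Def
import Cfsg.Agent.Lib.Char.Exceptional

/-!
The diagonal of the star construction with an invariant linear character is integral.
-/

set_option autoImplicit false
set_option maxHeartbeats 1000000
set_option synthInstance.maxHeartbeats 400000

open Cfsg CfsgLib.Blocks CfsgLib.Blocks.Pairs
open scoped Classical ComplexConjugate

namespace CfsgLib.BlockRank.Watanabe

universe u

variable {G : Type u} [Group G] [Finite G] {p : ℕ} [Fact p.Prime] {M : Ideal AlgInt} [M.IsMaximal]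

/-- What is used of the star construction. -/
def StarProps (p : ℕ) [Fact p.Prime] (M : Ideal AlgInt) [M.IsMaximal] (B : Set (IrrCharacter G))
    (P : Subgroup G) (e : MonoidAlgebra (ResField M) G) : Prop :=
  ∀ η : G → ℂ, BlockStar.Stable p P e η →
    IsGeneralizedCharacter P (fun u : P => η u) → ∀ χ ∈ B,
      IsGeneralizedCharacter G (BlockStar.star p M P e η (χ : G → ℂ)) ∧
      ∀ z : G, (∃ k : ℕ, orderOf z = p ^ k) →
        ∀ [Fintype {b : Set (IrrCharacter (Subgroup.centralizer ({z} : Set G))) // IsPBlock M b}]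
          (s : Subgroup.centralizer ({z} : Set G)), IsPRegular p s →
          BlockStar.star p M P e η (χ : G → ℂ) (z * s) =
            ∑ b : {b : Set (IrrCharacter (Subgroup.centralizer ({z} : Set G))) // IsPBlock M b},
              BlockStar.pairVal p P e η z (eIn b.2) *
                blockPart b.1 (fun c : Subgroup.centralizer ({z} : Set G) =>
                  (χ : G → ℂ) (z * c)) s

variable [CharP (ResField M) p]

/-- The diagonal is integral. -/
theorem diagInt_of_starProps (hM : IsPModular p M) {B : Set (IrrCharacter G)} (hB : IsPBlock M B)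
    {P : Subgroup G} {e : MonoidAlgebra (ResField M) G} (hP : PairOf p (ebar hB) P e)
    (hno : NoExt p P e) (hab : ∀ x ∈ P, ∀ y ∈ P, x * y = y * x) (hstar : StarProps p M B P e) :
    DiagInt p M B P e := by
  have hGf := Fintype.ofFinite G
  intro T φ hT μ hμ χ hχ
  set η : G → ℂ := ext0 μ with hη
  have hηP : ∀ u : P, η u = μ u := fun u => by rw [hη, ext0, dif_pos u.2]
  have hst : BlockStar.Stable p P e η := by
    intro u hu g f h1 h2
    rw [conjSub_zpowers] at h2
    obtain ⟨y, hy, hyu⟩ := exists_stab_of_fusion hP hno hab h1 h2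
    have hgu : g * u * g⁻¹ ∈ P := h2.le (Subgroup.mem_zpowers _)
    exact (hηP ⟨_, hgu⟩).trans ((hμ y hy ⟨u, hu⟩ ⟨_, hgu⟩ hyu.symm).trans (hηP ⟨u, hu⟩).symm)
  have hgen : IsGeneralizedCharacter P (fun u : P => η u) := by
    have h := CfsgLib.Char.IsIrrCharacter.isGeneralizedCharacter
      (CfsgLib.Char.isIrrCharacter_monoidHom μ.toHomUnits)
    convert h using 2 with u
    exact hηP u
  obtain ⟨hθ, hsec⟩ := hstar η hst hgen χ hχ
  set θ := BlockStar.star p M P e η (χ : G → ℂ) with hθdef
  obtain ⟨n, hn⟩ := CfsgLib.CharExc.exists_int_classInner hθ χ.2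
  refine ⟨n, ?_⟩
  rw [← hn]
  obtain ⟨X, hX, hXrep, hmem⟩ := hT.complete
  have hF : IsClassFunction G fun g => θ g * conj ((χ : G → ℂ) g) := fun g h => by
    show _ * _ = _ * _
    rw [CfsgLib.Char.IsGeneralizedCharacter.isClassFunction hθ g h,
      CfsgLib.Char.IsIrrCharacter.isClassFunction χ.2 g h]
  rw [classInner, sum_eq_sum_sectionSum (p := p) hF X hX hXrep, Finset.mul_sum]
  let S := fun x : G => Finset.univ.filter fun b : Set (IrrCharacter (Subgroup.centralizer ({x} : Set G))) =>
    IsInducedBlock M (Subgroup.centralizer ({x} : Set G)) b B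
  have hTS : T = X.sigma S := by
    ext s
    rw [hmem, Finset.mem_sigma]
    simp [S]
  rw [hTS, Finset.sum_sigma]
  refine Finset.sum_congr rfl fun x hx => ?_
  set C := Subgroup.centralizer ({x} : Set G) with hC
  have := Fintype.ofFinite C
  have := Fintype.ofFinite {b : Set (IrrCharacter C) // IsPBlock M b}
  set F : C → ℂ := fun c => (χ : G → ℂ) (x * c) with hFdef
  have hFc : IsClassFunction C F := isClassFunction_translate rfl χ
  rw [sectionSum_eq_sum_regSet (fun g => θ g * conj ((χ : G → ℂ) g)) rfl,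
    Finset.sum_congr rfl fun s (hs : s ∈ regSet (G := C) p) => by
      rw [hsec x (hX x hx) s (Finset.mem_filter.1 hs).2]]
  simp only [Finset.sum_mul]
  rw [Finset.sum_comm]
  have hreal : ∀ b : {b : Set (IrrCharacter C) // IsPBlock M b},
      ∑ s ∈ regSet (G := C) p, BlockStar.pairVal p P e η x (eIn b.2) * blockPart b.1 F s *
        conj ((χ : G → ℂ) (x * s)) =
      BlockStar.pairVal p P e η x (eIn b.2) * regNorm p b.1 F := by
    intro b
    have h1 := regPair_blockPart hM b.2 hFc F
    have h2 := congrArg conj h1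
    simp only [regPair, map_sum, map_mul, Complex.conj_conj] at h2
    rw [regNorm_eq]
    simp only [mul_assoc, ← Finset.mul_sum]
    congr 1
    rw [Finset.sum_congr rfl fun s _ => mul_comm (blockPart b.1 F s) _]
    refine h2.trans (Finset.sum_congr rfl fun s _ => mul_comm _ _)
  rw [Finset.sum_congr rfl fun b _ => hreal b]
  have hG0 : (Nat.card G : ℂ) ≠ 0 := Nat.cast_ne_zero.mpr Nat.card_pos.ne'
  have hC0 : (Nat.card C : ℂ) ≠ 0 := Nat.cast_ne_zero.mpr Nat.card_pos.ne'
  have hscal : (Nat.card G : ℂ)⁻¹ * (Nat.card {y : G // IsConj x y} : ℂ) = (Nat.card C : ℂ)⁻¹ := by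
    rw [← CfsgLib.Char.card_isConj_mul_card_centralizer x]
    push_cast
    have : (Nat.card {y : G // IsConj x y} : ℂ) ≠ 0 := by
      haveI : Nonempty {y : G // IsConj x y} := ⟨⟨x, IsConj.refl x⟩⟩
      exact Nat.cast_ne_zero.mpr Nat.card_pos.ne'
    field_simp
    rfl
  rw [← mul_assoc, hscal, Finset.mul_sum]
  refine Finset.sum_bij_ne_zero (fun b hb _ => ⟨b, (Finset.mem_filter.1 hb).2.1⟩)
    (fun b _ _ => Finset.mem_univ _) (fun a _ _ b _ _ h => congrArg Subtype.val h)
    (fun b _ h0 => ?_) (fun b hb h0 => ?_)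
  · have hrn : regNorm p b.1 F ≠ 0 := fun h => h0 (by rw [h, mul_zero, mul_zero])
    have hind : IsInducedBlock M C b.1 B := by
      obtain ⟨B', hB'⟩ := exists_isInducedBlock_centralizer hM rfl (hX x hx) b.2
      by_contra hcon
      refine hrn (regNorm_translate_eq_zero hM rfl (hX x hx) b.2 hB' fun hχ' => hcon ?_)
      rwa [IsPBlock.eq_of_mem hB hB'.2.1 hχ hχ']
    refine ⟨b.1, Finset.mem_filter.2 ⟨Finset.mem_univ _, hind⟩, fun hzero => h0 ?_, rfl⟩
    obtain ⟨g, hg, hb, hle⟩ := hT.link ⟨x, b.1⟩ ((hmem _).2 ⟨hx, hind⟩)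
    rw [BlockStar.pairVal_eq hst (g := g) (by rw [conjSub_zpowers]; exact hg ▸ hle), ← hg]
    rw [← hzero]
    simp only [diag, contrib, regPair, regNorm_eq, pow_zero, Nat.cast_one, one_mul]
    rw [mul_left_comm]
    congr 2
    exact Finset.sum_congr (by ext; simp [regSet]) fun _ _ => by congr!
  · have hind := (Finset.mem_filter.1 hb).2
    obtain ⟨g, hg, hb', hle⟩ := hT.link ⟨x, b⟩ ((hmem _).2 ⟨hx, hind⟩)
    rw [BlockStar.pairVal_eq hst (g := g) (by rw [conjSub_zpowers]; exact hg ▸ hle), ← hg]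
    simp only [diag, contrib, regPair, regNorm_eq, pow_zero, Nat.cast_one, one_mul]
    rw [mul_left_comm]
    congr 2
    exact Finset.sum_congr (by ext; simp [regSet]) fun _ _ => by congr!

end CfsgLib.BlockRank.Watanabe
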