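import Cfsg.Agent.Lib.BlockRank.Watanabe.Rank
import Cfsg.Agent.Lib.BlockRank.Watanabe.Diag
import Cfsg.Agent.Lib.Blocks.Pairs.InducedIn

/-!
Watanabe's theorem in terms of blocks.
-/

set_option autoImplicit false
set_option maxHeartbeats 1000000
set_option synthInstance.maxHeartbeats 400000

open Cfsg CfsgLib.Blocks CfsgLib.Blocks.Pairs
open scoped Classical

namespace CfsgLib.BlockRank.Watanabe

universe u

variable {p : ℕ} [Fact p.Prime] {M : Ideal AlgInt} [M.IsMaximal] [CharP (ResField M) p]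

/-- Watanabe's theorem, given the star construction. -/
theorem rank_eq_and_card_eq (hM : IsPModular p M)
    (hstar : ∀ (G : Type u) [Group G] [Finite G] (B : Set (IrrCharacter G)) (hB : IsPBlock M B)
      (P : Subgroup G) (e : MonoidAlgebra (ResField M) G), PairOf p (ebar hB) P e → NoExt p P e →
      (∀ x ∈ P, ∀ y ∈ P, x * y = y * x) → StarProps p M B P e)
    {G : Type u} [Group G] [Finite G] {B : Set (IrrCharacter G)} (hB : IsPBlock M B)
    {P : Subgroup G} (hPD : IsDefectGroup p M B P) (hab : ∀ x ∈ P, ∀ y ∈ P, x * y = y * x)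
    {c : Set (IrrCharacter (Subgroup.centralizer (P : Set G)))}
    (hc : IsInducedBlock M (Subgroup.centralizer (P : Set G)) c B) {T : Subgroup G}
    (hT : ∀ g : G, g ∈ T ↔ (g ∈ Subgroup.normalizer (P : Set G) ∧
      StabilizesBlock (Subgroup.centralizer (P : Set G)) c g))
    {u : G} (hu : u ∈ P) (huT : ∀ g ∈ T, g * u * g⁻¹ = u) {H : Subgroup G}
    (hH : H = Subgroup.centralizer ({u} : Set G)) {f : Set (IrrCharacter H)}
    (hf : IsInducedBlockIn M H (Subgroup.centralizer (P : Set G)) c f) :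
    blockRank p B = blockRank p f ∧ Nat.card B = Nat.card f := by
  obtain ⟨_, hc', hP, hno, hmax, hpP⟩ := exists_root_pair hM hPD hc
  have hfix : ∀ y ∈ pairStab P (eIn hc'), y * u * y⁻¹ = u := fun y hy =>
    huT y ((hT y).2 ⟨hy.1, (stabilizesBlock_iff hc' (normalizer_le_normalizer_centralizer P hy.1)).2 hy.2⟩)
  obtain rfl : H = Subgroup.centralizer (Subgroup.zpowers u : Set G) := by
    rw [hH, Subgroup.zpowers_eq_closure, Subgroup.centralizer_closure]
  have huz : Subgroup.zpowers u ≤ P := Subgroup.zpowers_le.2 hu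
  have hsle := (isInducedBlockIn_iff_sle hM hpP hab huz hc' hf.2.1).1 hf
  have hbe : eIn hf.2.1 = below p P (eIn hc') (Subgroup.zpowers u) := (below_eq hP.pair hsle).symm
  have hD := fun (G : Type u) [Group G] [Finite G] (B : Set (IrrCharacter G)) (hB : IsPBlock M B)
      (P : Subgroup G) (e : MonoidAlgebra (ResField M) G) (h1 : PairOf p (ebar hB) P e)
      (h2 : NoExt p P e) (h3 : ∀ x ∈ P, ∀ y ∈ P, x * y = y * x) =>
    diagInt_of_starProps hM hB h1 h2 h3 (hstar G B hB P e h1 h2 h3)
  refine ⟨?_, card_eq hM (rank_statement hM hD) hB hP hno hab hu hfix rfl hf.2.1 hbe⟩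
  rw [← rank_statement hM hD G B hB P (eIn hc') hP hno hab u hu hfix, lr, rk_eq hf.2.1 hbe]

end CfsgLib.BlockRank.Watanabe
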