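import Cfsg.Agent.Lib.BlockRank.Watanabe.Sections
import Cfsg.Agent.Lib.BlockRank.MajorAbelian
import Mathlib.GroupTheory.FiniteAbelian.Duality
import Mathlib.RingTheory.RootsOfUnity.Complex

/-!
The trace argument: if the twists by invariant linear characters have integral diagonal, the
ranks of the subsections are equidistributed over the fixed part of the defect group.
-/

set_option autoImplicit false
set_option maxHeartbeats 1000000
set_option synthInstance.maxHeartbeats 400000

open Cfsg CfsgLib.Blocks CfsgLib.Blocks.Pairs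
open scoped Classical ComplexConjugate

namespace CfsgLib.BlockRank.Watanabe

universe u

variable {G : Type u} [Group G] [Finite G] {p : ℕ} [Fact p.Prime] {M : Ideal AlgInt} [M.IsMaximal]

/-- Extension of a function on `P` by zero. -/
noncomputable def ext0 {P : Subgroup G} (μ : P → ℂ) (g : G) : ℂ :=
  if h : g ∈ P then μ ⟨g, h⟩ else 0

/-- The twist of every character of the block by an invariant linear character of the defect
group has an integral inner product with the character. -/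
def DiagInt (p : ℕ) (M : Ideal AlgInt) [M.IsMaximal] (B : Set (IrrCharacter G))
    (P : Subgroup G) (e : MonoidAlgebra (ResField M) G) : Prop :=
  ∀ (T : Finset (SecIdx G)) (φ : SecIdx G → G), Sections p M B P e T φ →
    ∀ μ : P →* ℂ, (∀ y ∈ pairStab P e, ∀ x x' : P, (x' : G) = y * x * y⁻¹ → μ x' = μ x) →
      ∀ χ ∈ B, ∃ z : ℤ, ∑ s ∈ T, ext0 μ (φ s) * diag p s χ = (z : ℂ)

omit [Fact p.Prime] [M.IsMaximal] in
/-- The diagonal contributions are real and non-negative. -/
theorem exists_diag_eq (s : SecIdx G) (χ : IrrCharacter G) :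
    ∃ r : ℝ, 0 ≤ r ∧ diag p s χ = (r : ℂ) := by
  have := Fintype.ofFinite G
  refine ⟨(Nat.card (Subgroup.centralizer ({s.1} : Set G)) : ℝ)⁻¹ *
    ∑ y ∈ regSet (G := Subgroup.centralizer ({s.1} : Set G)) p,
      Complex.normSq (blockPart s.2
        (fun c : Subgroup.centralizer ({s.1} : Set G) => (χ : G → ℂ) (s.1 * c)) y),
    mul_nonneg (by positivity) (Finset.sum_nonneg fun y _ => Complex.normSq_nonneg _), ?_⟩
  simp only [diag, contrib, regPair, pow_zero, Nat.cast_one, one_mul]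
  push_cast
  congr 1
  refine Finset.sum_congr (by ext; simp [regSet]) fun y _ => ?_
  rw [Complex.mul_conj]

variable [CharP (ResField M) p]

/-- On a major subsection the diagonal contribution is not zero. -/
theorem diag_ne_zero (hM : IsPModular p M) {B : Set (IrrCharacter G)} {P : Subgroup G}
    {e : MonoidAlgebra (ResField M) G} {T : Finset (SecIdx G)} {φ : SecIdx G → G}
    (h : Sections p M B P e T φ) {s : SecIdx G} (hs : s ∈ T) {χ : IrrCharacter G} (hχ : χ ∈ B) :
    diag p s χ ≠ 0 := by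
  have := Fintype.ofFinite G
  obtain ⟨ψ, hψ, hh⟩ := CfsgLib.BlockReg.exists_minExp (p := p)
    (CfsgLib.BlockReg.block_nonempty hM (h.induced s hs).2.1)
  intro h0
  refine contrib_ne_zero hM rfl (h.pelem s hs) (h.induced s hs) (h.major s hs) hχ hψ hh ?_
  simp only [diag, contrib, regPair, pow_zero, Nat.cast_one, one_mul, Complex.mul_conj] at h0
  have h1 := (mul_eq_zero.1 h0).resolve_left (inv_ne_zero (Nat.cast_ne_zero.2 Nat.card_pos.ne'))
  rw [← Complex.ofReal_sum, Complex.ofReal_eq_zero,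
    Finset.sum_eq_zero_iff_of_nonneg (fun y _ => Complex.normSq_nonneg _)] at h1
  simp only [contrib, regPair]
  rw [Finset.sum_eq_zero (fun y hy => ?_), mul_zero, mul_zero]
  have h2 := Complex.normSq_eq_zero.1 (h1 y (by simpa [regSet] using hy))
  exact mul_eq_zero_of_left (by convert h2) _

/-- A nontrivial invariant linear character has vanishing weighted sum of the ranks. -/
theorem sum_mul_rank_eq_zero (hM : IsPModular p M) {B : Set (IrrCharacter G)} {P : Subgroup G}
    {e : MonoidAlgebra (ResField M) G} {T : Finset (SecIdx G)} {φ : SecIdx G → G}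
    (h : Sections p M B P e T φ) (hint : DiagInt p M B P e) (μ : P →* ℂ)
    (hμ : ∀ y ∈ pairStab P e, ∀ x x' : P, (x' : G) = y * x * y⁻¹ → μ x' = μ x) (hne : μ ≠ 1) :
    ∑ s ∈ T, ext0 μ (φ s) * (blockRank p s.2 : ℂ) = 0 := by
  have := Fintype.ofFinite G
  have := Fintype.ofFinite B
  have hrk : ∀ s ∈ T, (blockRank p s.2 : ℂ) = ∑ χ ∈ B.toFinset, diag p s χ := fun s hs => by
    rw [← one_mul (blockRank p s.2 : ℂ)]
    have h1 := sum_contrib_self hM rfl (h.pelem s hs) (h.induced s hs) 0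
    rw [pow_zero, Nat.cast_one] at h1
    rw [← h1]
    refine Finset.sum_congr rfl fun χ _ => ?_
    unfold diag
    congr!
  rw [Finset.sum_congr rfl fun s hs => by rw [hrk s hs, Finset.mul_sum], Finset.sum_comm]
  refine Finset.sum_eq_zero fun χ hχ => ?_
  rw [Set.mem_toFinset] at hχ
  obtain ⟨z, hz⟩ := hint T φ h μ hμ χ hχ
  rw [hz]
  by_contra hz0
  have hz0' : z ≠ 0 := by exact_mod_cast hz0
  choose r hr0 hr using fun s => exists_diag_eq (p := p) (G := G) s χ
  have hr1 : ∑ s ∈ T, r s = 1 := by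
    have h1 := h.total χ hχ
    rw [Finset.sum_congr rfl fun s _ => hr s, ← Complex.ofReal_sum] at h1
    exact_mod_cast h1
  have hnorm : ∀ s ∈ T, ‖ext0 μ (φ s)‖ = 1 := fun s hs => by
    rw [ext0, dif_pos (h.mem s hs)]
    exact Complex.norm_eq_one_of_pow_eq_one
      (by rw [← map_pow, pow_card_eq_one', map_one]) Nat.card_pos.ne'
  have hzr : ∑ s ∈ T, (ext0 μ (φ s)).re * r s = (z : ℝ) := by
    have h1 := congrArg Complex.re hz
    rw [Complex.re_sum, Complex.intCast_re] at h1
    rw [← h1]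
    exact Finset.sum_congr rfl fun s _ => by rw [hr]; simp
  have hbd : ∀ s ∈ T, |(ext0 μ (φ s)).re| ≤ 1 := fun s hs =>
    (Complex.abs_re_le_norm _).trans (hnorm s hs).le
  have habs : |(z : ℝ)| ≤ 1 := by
    rw [← hzr, ← hr1]
    refine (Finset.abs_sum_le_sum_abs _ _).trans (Finset.sum_le_sum fun s hs => ?_)
    rw [abs_mul, abs_of_nonneg (hr0 s)]
    exact mul_le_of_le_one_left (hr0 s) (hbd s hs)
  have hzpm : z = 1 ∨ z = -1 := by
    have : |z| ≤ 1 := by exact_mod_cast habs
    have := abs_le.1 this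
    omega
  have heq : ∀ s ∈ T, (z : ℝ) * (ext0 μ (φ s)).re = 1 := by
    have h0 : ∑ s ∈ T, (1 - (z : ℝ) * (ext0 μ (φ s)).re) * r s = 0 := by
      simp only [sub_mul, one_mul, mul_assoc, Finset.sum_sub_distrib, ← Finset.mul_sum, hzr, hr1]
      rcases hzpm with rfl | rfl <;> norm_num
    intro s hs
    have hnn : ∀ t ∈ T, 0 ≤ (1 - (z : ℝ) * (ext0 μ (φ t)).re) * r t := fun t ht => by
      refine mul_nonneg (sub_nonneg.2 ((le_abs_self _).trans ?_)) (hr0 t)
      rw [abs_mul]
      exact mul_le_one₀ habs (abs_nonneg _) (hbd t ht)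
    have h1 := (mul_eq_zero.1 ((Finset.sum_eq_zero_iff_of_nonneg hnn).1 h0 s hs)).resolve_right
      fun h2 => diag_ne_zero hM h hs hχ (by rw [hr, h2, Complex.ofReal_zero])
    linarith
  obtain ⟨s₀, hs₀, y₀, -, hy₀⟩ := h.surj 1 (one_mem P)
  have hs₀1 : φ s₀ = 1 := by
    calc φ s₀ = y₀⁻¹ * (y₀ * φ s₀ * y₀⁻¹) * y₀ := by group
      _ = 1 := by rw [hy₀]; group
  have hz1 : z = 1 := by
    have h1 := heq s₀ hs₀
    rw [hs₀1, ext0, dif_pos (one_mem P)] at h1
    rw [show (⟨1, one_mem P⟩ : P) = 1 from rfl, map_one, Complex.one_re, mul_one] at h1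
    exact_mod_cast h1
  apply hne
  ext x
  obtain ⟨s, hs, y, hy, hyx⟩ := h.surj x x.2
  rw [hμ y hy ⟨φ s, h.mem s hs⟩ x hyx.symm, MonoidHom.one_apply]
  have h1 := heq s hs
  have h2 := hnorm s hs
  rw [hz1, Int.cast_one, one_mul] at h1
  rw [ext0, dif_pos (h.mem s hs)] at h1 h2
  have h3 := Complex.sq_norm_sub_sq_re (μ ⟨φ s, h.mem s hs⟩)
  rw [h1, h2] at h3
  exact Complex.ext (by rw [h1, Complex.one_re]) (by
    rw [Complex.one_im]
    nlinarith [sq_nonneg (μ ⟨φ s, h.mem s hs⟩).im])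

/-- The ranks are equidistributed over the values of an invariant homomorphism. -/
theorem sum_rank_fibre_eq (hM : IsPModular p M) {B : Set (IrrCharacter G)} {P : Subgroup G}
    {e : MonoidAlgebra (ResField M) G} (hab : ∀ x ∈ P, ∀ y ∈ P, x * y = y * x)
    {T : Finset (SecIdx G)} {φ : SecIdx G → G}
    (h : Sections p M B P e T φ) (hint : DiagInt p M B P e) (π : P →* P)
    (hπ : ∀ y ∈ pairStab P e, ∀ x x' : P, (x' : G) = y * x * y⁻¹ → π x' = π x)
    {u v : P} (hu : u ∈ π.range) (hv : v ∈ π.range) :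
    ∑ s ∈ T.filter (fun s => ∀ hs : φ s ∈ P, π ⟨φ s, hs⟩ = u), blockRank p s.2 =
      ∑ s ∈ T.filter (fun s => ∀ hs : φ s ∈ P, π ⟨φ s, hs⟩ = v), blockRank p s.2 := by
  let U := π.range
  letI : CommGroup U := { (inferInstance : Group U) with
    mul_comm := fun a b => Subtype.ext (Subtype.ext (hab _ (a : P).2 _ (b : P).2)) }
  haveI : Finite (U →* ℂˣ) :=
    Finite.of_equiv _ (CommGroup.monoidHom_mulEquiv_of_hasEnoughRootsOfUnity U ℂ).some.toEquiv.symm
  letI : Fintype (U →* ℂˣ) := Fintype.ofFinite _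
  have horth : ∀ w : U, w ≠ 1 → ∑ ν : U →* ℂˣ, (ν w : ℂ) = 0 := fun w hw => by
    obtain ⟨ν₀, hν₀⟩ := CommGroup.exists_apply_ne_one_of_hasEnoughRootsOfUnity U ℂ hw
    have h1 : (ν₀ w : ℂ) * ∑ ν : U →* ℂˣ, (ν w : ℂ) = ∑ ν : U →* ℂˣ, (ν w : ℂ) := by
      rw [Finset.mul_sum]
      exact Fintype.sum_equiv (Equiv.mulLeft ν₀) _ _ fun ν => by simp
    have h2 : ((ν₀ w : ℂ) - 1) * ∑ ν : U →* ℂˣ, (ν w : ℂ) = 0 := by rw [sub_mul, h1, one_mul, sub_self]
    exact (mul_eq_zero.1 h2).resolve_left (sub_ne_zero.2 fun h' => hν₀ (Units.ext h'))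
  let val : SecIdx G → U := fun s =>
    if hs : φ s ∈ P then ⟨π ⟨φ s, hs⟩, ⟨_, rfl⟩⟩ else 1
  have hval : ∀ s (hs : s ∈ T), (val s : P) = π ⟨φ s, h.mem s hs⟩ := fun s hs => by
    simp [val, h.mem s hs]
  have hfilt : ∀ w : U, (Fintype.card (U →* ℂˣ) : ℂ) *
      ((∑ s ∈ T.filter (fun s => ∀ hs : φ s ∈ P, π ⟨φ s, hs⟩ = (w : P)), blockRank p s.2 : ℕ) : ℂ) =
      ((∑ s ∈ T, blockRank p s.2 : ℕ) : ℂ) := by
    intro w
    have hmain : ∑ ν : U →* ℂˣ, ∑ s ∈ T, (ν (val s * w⁻¹) : ℂ) * (blockRank p s.2 : ℂ) =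
        ((∑ s ∈ T, blockRank p s.2 : ℕ) : ℂ) := by
      rw [Finset.sum_eq_single 1 (fun ν _ hν => ?_) (fun h' => absurd (Finset.mem_univ _) h')]
      · push_cast
        exact Finset.sum_congr rfl fun s _ => by simp
      · let μ : P →* ℂ := ((Units.coeHom ℂ).comp ν).comp π.rangeRestrict
        have h0 := sum_mul_rank_eq_zero hM h hint μ (fun y hy x x' hxx => by
          show ((Units.coeHom ℂ).comp ν) (π.rangeRestrict x') = _
          rw [show π.rangeRestrict x' = π.rangeRestrict x from Subtype.ext (hπ y hy x x' hxx)]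
          rfl) (fun h' => hν (MonoidHom.ext fun a => Units.ext (by
            obtain ⟨x, hx⟩ := π.rangeRestrict_surjective a
            have := DFunLike.congr_fun h' x
            rw [← hx]
            simpa [μ] using this)))
        calc ∑ s ∈ T, (ν (val s * w⁻¹) : ℂ) * (blockRank p s.2 : ℂ)
            = (ν w⁻¹ : ℂ) * ∑ s ∈ T, ext0 μ (φ s) * (blockRank p s.2 : ℂ) := by
              rw [Finset.mul_sum]
              refine Finset.sum_congr rfl fun s hs => ?_
              rw [ext0, dif_pos (h.mem s hs), map_mul, Units.val_mul,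
                show val s = π.rangeRestrict ⟨φ s, h.mem s hs⟩ from Subtype.ext (hval s hs)]
              simp only [μ, MonoidHom.coe_comp, Function.comp_apply, Units.coeHom_apply]
              ring
          _ = 0 := by rw [h0, mul_zero]
    rw [← hmain, Finset.sum_comm, Nat.cast_sum, Finset.mul_sum, Finset.sum_filter]
    refine Finset.sum_congr rfl fun s hs => ?_
    rw [← Finset.sum_mul]
    split_ifs with hc
    · rw [show val s * w⁻¹ = 1 from mul_inv_eq_one.2 (Subtype.ext ((hval s hs).trans (hc _)))]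
      simp
    · rw [horth _ fun h' => hc fun _ => ?_, zero_mul]
      rw [mul_inv_eq_one] at h'
      rw [← h', hval s hs]
  have h1 := (hfilt ⟨u, hu⟩).trans (hfilt ⟨v, hv⟩).symm
  exact_mod_cast mul_left_cancel₀ (Nat.cast_ne_zero.2 Fintype.card_ne_zero) h1

end CfsgLib.BlockRank.Watanabe
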