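import Cfsg.Agent.Lib.BlockRank.NilpotentAbelian
import Cfsg.Agent.Lib.Blocks.Pairs.SubTransport

/-!
The rank of the block of a subgroup given by a block idempotent, and its invariance.
-/

set_option autoImplicit false
set_option maxHeartbeats 800000
set_option synthInstance.maxHeartbeats 400000

open Cfsg CfsgLib.Blocks CfsgLib.Blocks.Pairs
open scoped Classical

namespace CfsgLib.BlockRank.Watanabe

universe u

variable {G : Type u} [Group G] [Finite G] {p : ℕ} [Fact p.Prime] {M : Ideal AlgInt} [M.IsMaximal]

/-- The rank of the block of `K` with the given idempotent. -/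
noncomputable def rk (p : ℕ) (K : Subgroup G) (a : MonoidAlgebra (ResField M) G) : ℕ :=
  if h : ∃ (b : Set (IrrCharacter K)) (hb : IsPBlock M b), eIn hb = a then blockRank p h.choose
  else 0

omit [Fact p.Prime] in
theorem rk_eq {K : Subgroup G} {b : Set (IrrCharacter K)} (hb : IsPBlock M b)
    {a : MonoidAlgebra (ResField M) G} (h : eIn hb = a) : rk p K a = blockRank p b := by
  have hex : ∃ (b : Set (IrrCharacter K)) (hb : IsPBlock M b), eIn hb = a := ⟨b, hb, h⟩
  obtain ⟨hb', h'⟩ := hex.choose_spec
  rw [rk, dif_pos hex, eIn_injective hb hb' (h.trans h'.symm)]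

omit [Fact p.Prime] in
/-- Isomorphic subgroups with corresponding idempotents have blocks of the same rank. -/
theorem rk_equiv {G' : Type u} [Group G'] [Finite G'] {K : Subgroup G} {K' : Subgroup G'}
    {a : MonoidAlgebra (ResField M) G} {a' : MonoidAlgebra (ResField M) G'}
    (ha : IsBlockIdem K a) (ha' : SuppIn K' a') (φ : K' ≃* K)
    (h : ∀ k : K', a'.coeff (k : G') = a.coeff ((φ k : K) : G)) : rk p K' a' = rk p K a := by
  obtain ⟨b, hb, hba⟩ := exists_eIn_eq ha
  have hb' := isPBlock_pullSet φ hb
  have he : eIn hb' = a' := by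
    ext g
    by_cases hg : g ∈ K'
    · rw [show g = ((⟨g, hg⟩ : K') : G') from rfl, h, ← hba, coeff_eIn, coeff_eIn]
      congr 1
      apply Subtype.ext
      simp [subgroupBlockCoeff, blockCoeff_pullSet, hg]
    · rw [(isBlockIdem_eIn hb').mem.supp g hg, ha' g hg]
  rw [rk_eq hb' he, rk_eq hb hba, blockRank_pullSet]

omit [Fact p.Prime] in
/-- Equal subgroups. -/
theorem rk_congr {K K' : Subgroup G} (h : K = K') (a : MonoidAlgebra (ResField M) G) :
    rk p K a = rk p K' a := by subst h; rfl

omit [Fact p.Prime] in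
/-- Conjugation. -/
theorem rk_conj (g : G) {K : Subgroup G} {a : MonoidAlgebra (ResField M) G}
    (ha : IsBlockIdem K a) : rk p (conjSub g K) (conjA g a) = rk p K a := by
  let φ : conjSub g K ≃* K :=
    ((Subgroup.equivMapOfInjective K (MulAut.conj g).toMonoidHom (MulAut.conj g).injective)).symm
  refine rk_equiv ha (fun x hx => ?_) φ fun k => ?_
  · rw [coeff_conjA]
    exact ha.mem.supp _ fun h => hx (mem_conjSub.2 h)
  · rw [coeff_conjA]
    congr 1
    have h1 : MulAut.conj g (φ k : G) = (k : G) :=
      congrArg Subtype.val ((Subgroup.equivMapOfInjective K (MulAut.conj g).toMonoidHom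
        (MulAut.conj g).injective).apply_symm_apply k)
    rw [← h1, MulAut.conj_apply]
    group

omit [Fact p.Prime] in
/-- Subgroups of a subgroup. -/
theorem rk_up {H : Subgroup G} {K : Subgroup H} {a : MonoidAlgebra (ResField M) H}
    (ha : IsBlockIdem K a) : rk p K a = rk p (K.map H.subtype) (up H a) :=
  rk_equiv (isBlockIdem_up_iff.2 ha) ha.mem.supp
    (Subgroup.equivMapOfInjective K H.subtype H.subtype_injective) fun k =>
      (coeff_up_coe H a (k : H)).symm

variable [CharP (ResField M) p]

/-- Subgroups with the same centralizer have the same pair below a given one. -/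
theorem sle_eq_of_centralizer_eq {P Q A : Subgroup G} {e f f' : MonoidAlgebra (ResField M) G}
    (hP : IsPair p P e) (hQA : Q ≤ A) (hA : A ≤ Subgroup.normalizer (Q : Set G))
    (hC : Subgroup.centralizer (A : Set G) = Subgroup.centralizer (Q : Set G))
    (hf : SLE p Q f P e) (hf' : SLE p A f' P e) : f = f' := by
  obtain ⟨g, hg⟩ := exists_ns (hf'.pair_left hP) hQA hA
  obtain rfl := SLE.unique hP hf (hg.sle.trans hf')
  have hb := (hf.pair_left hP).block
  have hb' : IsBlockIdem (Subgroup.centralizer (Q : Set G)) f' := hC ▸ (hf'.pair_left hP).block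
  have h := hg.br
  rw [trunc_eq_self (hC.symm ▸ hb.mem.supp)] at h
  exact hb.eq_of_mul_ne_zero hb' (by rw [h]; exact hb'.ne_zero)

end CfsgLib.BlockRank.Watanabe
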