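import Cfsg.Agent.Lib.BlockRank.Watanabe.Count
import Cfsg.Agent.Lib.Blocks.Pairs.Inertial

/-!
Watanabe's theorem: a fixed element of an abelian defect group does not change the invariants.
-/

set_option autoImplicit false
set_option maxHeartbeats 1600000
set_option synthInstance.maxHeartbeats 400000

open Cfsg CfsgLib.Blocks CfsgLib.Blocks.Pairs
open scoped Classical

namespace CfsgLib.BlockRank.Watanabe

universe u

variable {G : Type u} [Group G] [Finite G] {p : ℕ} [Fact p.Prime] {M : Ideal AlgInt} [M.IsMaximal]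
  [CharP (ResField M) p]

/-- The invariant projection onto the fixed elements. -/
theorem exists_proj (hM : IsPModular p M) {B : MonoidAlgebra (ResField M) G} {P : Subgroup G}
    {e : MonoidAlgebra (ResField M) G} (hP : PairOf p B P e) (hno : NoExt p P e)
    (hab : ∀ x ∈ P, ∀ y ∈ P, x * y = y * x) :
    ∃ π : P →* P, (∀ y ∈ pairStab P e, ∀ x x' : P, (x' : G) = y * x * y⁻¹ → π x' = π x) ∧
      ∀ u : P, (∀ y ∈ pairStab P e, y * (u : G) * y⁻¹ = u) → π u = u := by
  letI : CommGroup P := { (inferInstance : Group P) with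
    mul_comm := fun a b => Subtype.ext (hab _ a.2 _ b.2) }
  let ψ : pairStab P e →* MulAut P := P.normalizerMonoidHom.comp
    (Subgroup.inclusion (fun y hy => hy.1 : pairStab P e ≤ Subgroup.normalizer (P : Set G)))
  have hψ : ∀ (t : pairStab P e) (x : P), ((ψ t x : P) : G) = (t : G) * x * (t : G)⁻¹ := fun t x => rfl
  haveI : Finite (MulAut P) := CfsgLib.Fusion.finite_mulAut
  letI : Fintype ψ.range := Fintype.ofFinite _
  have hcop : (Nat.card P).Coprime (Fintype.card ψ.range) := by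
    obtain ⟨i, hi⟩ := hP.pair.pgroup.exists_card_eq
    rw [hi]
    refine Nat.Coprime.pow_left _ ((Fact.out : p.Prime).coprime_iff_not_dvd.2 fun hd => ?_)
    obtain ⟨α', hα'⟩ := exists_prime_orderOf_dvd_card p hd
    obtain ⟨t, ht⟩ := MonoidHom.mem_range.1 α'.2
    obtain ⟨r, hr, htr⟩ := exists_pow_mem_centralizer hM hP hno hab t.2
    have hα : orderOf (ψ t) = p := by rw [ht, Subgroup.orderOf_coe, hα']
    refine hr (hα ▸ orderOf_dvd_of_pow_eq_one ?_)
    rw [← map_pow]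
    exact MulEquiv.ext fun x => Subtype.ext (by
      rw [hψ, SubgroupClass.coe_pow, MulAut.one_apply,
        ← Subgroup.mem_centralizer_iff.1 htr x x.2, mul_inv_cancel_right])
  let π₀ : P →* P := ∏ α : ψ.range, (α : MulAut P).toMonoidHom
  let q : P ≃* P := MulEquiv.ofBijective (powMonoidHom (Fintype.card ψ.range)) (powCoprime hcop).bijective
  refine ⟨q.symm.toMonoidHom.comp π₀, fun y hy x x' hx => ?_, fun u hu => ?_⟩
  · have hxy : x' = ψ ⟨y, hy⟩ x := Subtype.ext (hx.trans (hψ ⟨y, hy⟩ x).symm)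
    simp only [MonoidHom.comp_apply]
    congr 1
    simp only [π₀, MonoidHom.finsetProd_apply]
    refine Fintype.prod_equiv (Equiv.mulRight ⟨ψ ⟨y, hy⟩, _, rfl⟩) _ _ fun α => ?_
    rw [hxy]
    rfl
  · simp only [MonoidHom.comp_apply]
    refine (MulEquiv.symm_apply_eq q).2 ?_
    show π₀ u = u ^ Fintype.card ψ.range
    simp only [π₀, MonoidHom.finsetProd_apply]
    rw [Finset.prod_congr rfl (g := fun _ => u) fun α _ => ?_, Finset.prod_const, Finset.card_univ]
    obtain ⟨α, t, rfl⟩ := α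
    exact Subtype.ext ((hψ t u).trans (hu t t.2))

/-- The statement proved by induction. -/
def RankStatement (p : ℕ) (M : Ideal AlgInt) [M.IsMaximal] (G : Type u) [Group G] [Finite G] :
    Prop :=
  ∀ (B : Set (IrrCharacter G)) (hB : IsPBlock M B) (P : Subgroup G)
    (e : MonoidAlgebra (ResField M) G), PairOf p (ebar hB) P e → NoExt p P e →
    (∀ x ∈ P, ∀ y ∈ P, x * y = y * x) → ∀ u ∈ P, (∀ y ∈ pairStab P e, y * u * y⁻¹ = u) →
    lr p P e (Subgroup.zpowers u) = blockRank p B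

theorem zpowers_sup_le {P : Subgroup G} {a z : G} (ha : a ∈ P) (hz : z ∈ P) :
    Subgroup.zpowers a ⊔ Subgroup.zpowers z ≤ P :=
  sup_le (Subgroup.zpowers_le.2 ha) (Subgroup.zpowers_le.2 hz)

/-- The ranks inside the centralizer of `a`. -/
theorem lr_local {B : MonoidAlgebra (ResField M) G} {P : Subgroup G}
    {e : MonoidAlgebra (ResField M) G} (hP : PairOf p B P e) (hno : NoExt p P e)
    (hab : ∀ x ∈ P, ∀ y ∈ P, x * y = y * x) {a : G} (ha : a ∈ P) {H : Subgroup G}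
    (hH : H = Subgroup.centralizer (Subgroup.zpowers a : Set G)) (z : H) (hz : (z : G) ∈ P) :
    lr p (P.subgroupOf H) (down H e) (Subgroup.zpowers z) =
      lr p P e (Subgroup.zpowers a ⊔ Subgroup.zpowers (z : G)) := by
  have hle := below_sle hP.pair (Subgroup.zpowers_le.2 ha)
  obtain ⟨hP', -, -⟩ := local_pair hH hP hno hab hle
  have haH : ∀ x ∈ P, x ∈ H := fun x hx => hH ▸
    Subgroup.mem_centralizer_iff.2 fun q hq => hab q (Subgroup.zpowers_le.2 ha hq) x hx
  set A := Subgroup.zpowers a ⊔ Subgroup.zpowers (z : G) with hA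
  have hAP : A ≤ P := zpowers_sup_le ha hz
  have hAH : A ≤ H := fun x hx => haH x (hAP hx)
  have habH : ∀ x ∈ P.subgroupOf H, ∀ y ∈ P.subgroupOf H, x * y = y * x := fun x hx y hy =>
    Subtype.ext (hab _ hx _ hy)
  have hQA : Subgroup.zpowers z ≤ A.subgroupOf H :=
    Subgroup.zpowers_le.2 (Subgroup.mem_sup_right (Subgroup.mem_zpowers _) : (z : G) ∈ A)
  have hAPH : A.subgroupOf H ≤ P.subgroupOf H := fun x hx => hAP hx
  have hCA : Subgroup.centralizer (A : Set G) ≤ H := hH ▸ centralizer_anti le_sup_left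
  have hC : Subgroup.centralizer (A.subgroupOf H : Set H) =
      Subgroup.centralizer (Subgroup.zpowers z : Set H) := by
    refine le_antisymm (centralizer_anti hQA) fun w hw => Subgroup.mem_centralizer_iff.2 fun x hx => ?_
    have hsub : A ≤ Subgroup.centralizer ({(w : G)} : Set G) := by
      refine sup_le (Subgroup.zpowers_le.2 ?_) (Subgroup.zpowers_le.2 ?_) <;>
        rw [Subgroup.mem_centralizer_singleton_iff]
      · exact Subgroup.mem_centralizer_iff.1 (hH ▸ w.2 : (w : G) ∈ Subgroup.centralizer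
          (Subgroup.zpowers a : Set G)) a (Subgroup.mem_zpowers a)
      · exact congrArg Subtype.val (Subgroup.mem_centralizer_iff.1 hw z (Subgroup.mem_zpowers z))
    exact Subtype.ext (Subgroup.mem_centralizer_singleton_iff.1 (hsub hx))
  rw [lr_eq_of_centralizer_eq hP'.pair habH hQA hAPH hC]
  have hg := below_sle hP'.pair hAPH
  have hmap : (A.subgroupOf H).map H.subtype = A := Subgroup.map_subgroupOf_eq_of_le hAH
  have hup := hg.up_of_le (hmap.symm ▸ hCA)
  rw [hmap, Subgroup.map_subgroupOf_eq_of_le haH,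
    up_down (hP.pair.block.mem.supp.mono (hH ▸ centralizer_anti (Subgroup.zpowers_le.2 ha)))] at hup
  rw [lr, lr, below_eq hP.pair hup, rk_up (hg.pair_left hP'.pair).block, centralizer_subgroupOf_map,
    hmap, Subgroup.map_subgroupOf_eq_of_le hCA]

/-- The step to a centralizer. -/
theorem lr_step {B : MonoidAlgebra (ResField M) G} {P : Subgroup G}
    {e : MonoidAlgebra (ResField M) G} (hP : PairOf p B P e) (hno : NoExt p P e)
    (hab : ∀ x ∈ P, ∀ y ∈ P, x * y = y * x) {u : G} (hu : u ∈ P)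
    (hfix : ∀ y ∈ pairStab P e, y * u * y⁻¹ = u) {a : G} (ha : a ∈ P)
    (ih : RankStatement p M (Subgroup.centralizer (Subgroup.zpowers a : Set G))) :
    lr p P e (Subgroup.zpowers a) = lr p P e (Subgroup.zpowers u ⊔ Subgroup.zpowers a) := by
  have hle := below_sle hP.pair (Subgroup.zpowers_le.2 ha)
  obtain ⟨hP', hno', hst⟩ := local_pair rfl hP hno hab hle
  set H := Subgroup.centralizer (Subgroup.zpowers a : Set G) with hH
  obtain ⟨b, hb, hbe⟩ := exists_ebar_eq hP'.blockB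
  have heIn : eIn hb = below p P e (Subgroup.zpowers a) := by
    rw [eIn, hbe, up_down (hle.pair_left hP.pair).block.mem.supp]
  have huH : u ∈ H := Subgroup.mem_centralizer_iff.2 fun q hq =>
    hab q (Subgroup.zpowers_le.2 ha hq) u hu
  have h := ih b hb (P.subgroupOf H) (down H e) (hbe ▸ hP') hno'
    (fun x hx y hy => Subtype.ext (hab _ hx _ hy)) ⟨u, huH⟩ hu
    (fun y hy => Subtype.ext (hfix _ (hst y hy)))
  rw [lr_local hP hno hab ha rfl ⟨u, huH⟩ hu, sup_comm] at h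
  rw [h, lr, rk_eq hb heIn]

/-- Watanabe: the rank. -/
theorem rank_statement (hM : IsPModular p M)
    (hstar : ∀ (G : Type u) [Group G] [Finite G] (B : Set (IrrCharacter G)) (hB : IsPBlock M B)
      (P : Subgroup G) (e : MonoidAlgebra (ResField M) G), PairOf p (ebar hB) P e → NoExt p P e →
      (∀ x ∈ P, ∀ y ∈ P, x * y = y * x) → DiagInt p M B P e) :
    ∀ (G : Type u) [Group G] [Finite G], RankStatement p M G := by
  suffices h : ∀ (n : ℕ) (G : Type u) [Group G] [Finite G], Nat.card G = n → RankStatement p M G from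
    fun G _ _ => h _ G rfl
  intro n
  induction n using Nat.strong_induction_on with
  | _ n ih =>
  intro G _ _ hn B hB P e hP hno hab u hu hfix
  have hint := hstar G B hB P e hP hno hab
  have hC : ∀ a : G, a ∉ Subgroup.center G →
      RankStatement p M (Subgroup.centralizer (Subgroup.zpowers a : Set G)) := fun a ha => by
    refine ih _ ?_ _ rfl
    rw [← hn]
    refine lt_of_le_of_ne (Subgroup.card_le_card_group _) fun heq => ha ?_
    have htop := Subgroup.eq_top_of_card_eq _ heq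
    exact Subgroup.mem_center_iff.2 fun y =>
      (Subgroup.mem_centralizer_iff.1 (htop ▸ Subgroup.mem_top y :
        y ∈ Subgroup.centralizer (Subgroup.zpowers a : Set G)) a (Subgroup.mem_zpowers a)).symm
  by_cases huc : u ∈ Subgroup.center G
  · rw [← lr_bot hB hP]
    refine (lr_eq_of_centralizer_eq hP.pair hab bot_le (Subgroup.zpowers_le.2 hu) ?_).symm
    refine le_antisymm (centralizer_anti bot_le) fun y _ => ?_
    rw [Subgroup.zpowers_eq_closure, Subgroup.centralizer_closure]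
    exact Subgroup.mem_centralizer_singleton_iff.2 (Subgroup.mem_center_iff.1 huc y)
  obtain ⟨T, φ, hT⟩ := exists_sectionsData hM hB hP hno hab
  obtain ⟨π, hπ, hπfix⟩ := exists_proj hM hP hno hab
  have hπu : π ⟨u, hu⟩ = ⟨u, hu⟩ := hπfix _ hfix
  have hfib := sum_rank_fibre_eq hM hab hT hint π hπ (u := ⟨u, hu⟩) (v := 1)
    ⟨⟨u, hu⟩, hπu⟩ (one_mem _)
  set T₁ := T.filter fun s => ∀ hs : φ s ∈ P, π ⟨φ s, hs⟩ = 1 with hT₁
  have hT₁T : ∀ s ∈ T₁, s ∈ T := fun s hs => (Finset.mem_filter.1 hs).1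
  choose σ hσT yσ hyσ hσ using fun s (hs : s ∈ T₁) =>
    hT.surj (u * φ s) (P.mul_mem hu (hT.mem s (hT₁T s hs)))
  have hbij : ∑ s ∈ T.filter (fun s => ∀ hs : φ s ∈ P, π ⟨φ s, hs⟩ = ⟨u, hu⟩), blockRank p s.2 =
      ∑ s ∈ T₁.attach, blockRank p (σ s.1 s.2).2 := by
    refine (Finset.sum_bij (fun s _ => σ s.1 s.2) (fun s _ => ?_) (fun s _ t _ hst => ?_)
      (fun s hs => ?_) fun s _ => rfl).symm
    · refine Finset.mem_filter.2 ⟨hσT _ _, fun h' => ?_⟩
      rw [← hπ _ (hyσ _ s.2) ⟨_, h'⟩ (⟨u, hu⟩ * ⟨φ s.1, hT.mem _ (hT₁T _ s.2)⟩) (hσ _ s.2).symm,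
        map_mul, hπu, (Finset.mem_filter.1 s.2).2 _, mul_one]
    · refine Subtype.ext (hT.inj _ (hT₁T _ s.2) _ (hT₁T _ t.2) (yσ _ t.2 * (yσ _ s.2)⁻¹)
        (mul_mem (hyσ _ t.2) (inv_mem (hyσ _ s.2))) ?_)
      obtain ⟨ys, hys⟩ : ∃ a, a = yσ s.1 s.2 := ⟨_, rfl⟩
      obtain ⟨yt, hyt⟩ : ∃ a, a = yσ t.1 t.2 := ⟨_, rfl⟩
      rw [← hys, ← hyt]
      have e1 : ys⁻¹ * (u * φ s.1) * ys = φ (σ t.1 t.2) := by
        rw [← hσ _ s.2, hst, hys]; group
      have e2 : yt * ys⁻¹ * (u * φ s.1) * (yt * ys⁻¹)⁻¹ = u * φ t.1 := by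
        rw [← hσ _ t.2, ← e1, hyt]; group
      have e3 : yt * ys⁻¹ * u * (yt * ys⁻¹)⁻¹ = u :=
        hfix _ (hys ▸ hyt ▸ mul_mem (hyσ _ t.2) (inv_mem (hyσ _ s.2)))
      rw [show yt * ys⁻¹ * (u * φ s.1) * (yt * ys⁻¹)⁻¹ =
        (yt * ys⁻¹ * u * (yt * ys⁻¹)⁻¹) * (yt * ys⁻¹ * φ s.1 * (yt * ys⁻¹)⁻¹) by group, e3] at e2
      exact mul_left_cancel e2
    · obtain ⟨hsT, hsπ⟩ := Finset.mem_filter.1 hs
      obtain ⟨r, hr, y, hy, hyr⟩ := hT.surj (u⁻¹ * φ s) (P.mul_mem (P.inv_mem hu) (hT.mem s hsT))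
      have hr1 : r ∈ T₁ := Finset.mem_filter.2 ⟨hr, fun h' => by
        rw [← hπ y hy ⟨_, h'⟩ (⟨u, hu⟩⁻¹ * ⟨φ s, hT.mem s hsT⟩) hyr.symm, map_mul, map_inv, hπu,
          hsπ, inv_mul_cancel]⟩
      refine ⟨⟨r, hr1⟩, Finset.mem_attach _ _, hT.inj _ (hσT _ _) _ hsT (y * yσ r hr1)
        (mul_mem hy (hyσ _ _)) ?_⟩
      calc y * yσ r hr1 * φ (σ r hr1) * (y * yσ r hr1)⁻¹
          = y * (yσ r hr1 * φ (σ r hr1) * (yσ r hr1)⁻¹) * y⁻¹ := by group
        _ = y * u * y⁻¹ * (y * φ r * y⁻¹) := by rw [hσ r hr1]; group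
        _ = φ s := by rw [hfix y hy, hyr, mul_inv_cancel_left]
  rw [hbij, ← Finset.sum_attach T₁] at hfib
  obtain ⟨s₀, hs₀, y₀, -, hy₀⟩ := hT.surj 1 (one_mem P)
  have hs₀1 : φ s₀ = 1 := by
    calc φ s₀ = y₀⁻¹ * (y₀ * φ s₀ * y₀⁻¹) * y₀ := by group
      _ = 1 := by rw [hy₀]; group
  have hs₀T₁ : s₀ ∈ T₁ := Finset.mem_filter.2 ⟨hs₀, fun h' => by
    rw [show (⟨φ s₀, h'⟩ : P) = 1 from Subtype.ext hs₀1, map_one]⟩
  have hlr : ∀ s (hs : s ∈ T₁), blockRank p (σ s hs).2 =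
      lr p P e (Subgroup.zpowers (u * φ s)) := fun s hs => by
    rw [hT.rank_eq hP.pair (hσT s hs), ← hσ s hs, ← conjSub_zpowers]
    exact (lr_conj hP.pair (Subgroup.zpowers_le.2 (hT.mem _ (hσT s hs))) (hyσ s hs)).symm
  have hother : ∀ s ∈ T₁.attach.erase ⟨s₀, hs₀T₁⟩, blockRank p (σ s.1 s.2).2 = blockRank p s.1.2 := by
    rintro ⟨s, hs⟩ hne
    have hsT := hT₁T s hs
    have hs1 : φ s ≠ 1 := fun h1 => (Finset.mem_erase.1 hne).1 (Subtype.ext
      (hT.inj s hsT s₀ hs₀ 1 (one_mem _) (by rw [h1, hs₀1]; group)))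
    have hnfix : ¬ ∀ y ∈ pairStab P e, y * φ s * y⁻¹ = φ s := fun h => hs1 (by
      have h1 := hπfix ⟨φ s, hT.mem s hsT⟩ h
      rw [(Finset.mem_filter.1 hs).2] at h1
      exact (congrArg Subtype.val h1).symm)
    have hxc : φ s ∉ Subgroup.center G := fun h => hnfix fun y _ => by
      rw [Subgroup.mem_center_iff.1 h y, mul_inv_cancel_right]
    have huxc : u * φ s ∉ Subgroup.center G := fun h => hnfix fun y hy => by
      have h1 : y * (u * φ s) * y⁻¹ = u * φ s := by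
        rw [Subgroup.mem_center_iff.1 h y, mul_inv_cancel_right]
      rw [show y * (u * φ s) * y⁻¹ = (y * u * y⁻¹) * (y * φ s * y⁻¹) by group, hfix y hy] at h1
      exact mul_left_cancel h1
    rw [hlr s hs, hT.rank_eq hP.pair hsT,
      lr_step hP hno hab hu hfix (P.mul_mem hu (hT.mem s hsT)) (hC _ huxc),
      lr_step hP hno hab hu hfix (hT.mem s hsT) (hC _ hxc)]
    congr 1
    refine le_antisymm (sup_le le_sup_left (Subgroup.zpowers_le.2 (mul_mem
      (Subgroup.mem_sup_left (Subgroup.mem_zpowers u)) (Subgroup.mem_sup_right (Subgroup.mem_zpowers _)))))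
      (sup_le le_sup_left (Subgroup.zpowers_le.2 ?_))
    have h1 : u⁻¹ * (u * φ s) ∈ Subgroup.zpowers u ⊔ Subgroup.zpowers (u * φ s) :=
      mul_mem (inv_mem (Subgroup.mem_sup_left (Subgroup.mem_zpowers u)))
        (Subgroup.mem_sup_right (Subgroup.mem_zpowers _))
    rwa [inv_mul_cancel_left] at h1
  rw [← Finset.add_sum_erase _ _ (Finset.mem_attach T₁ ⟨s₀, hs₀T₁⟩),
    ← Finset.add_sum_erase _ _ (Finset.mem_attach T₁ ⟨s₀, hs₀T₁⟩),
    Finset.sum_congr rfl hother] at hfib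
  have h0 := Nat.add_right_cancel hfib
  rw [hlr s₀ hs₀T₁, hs₀1, mul_one, hT.rank_eq hP.pair hs₀, hs₀1, Subgroup.zpowers_one_eq_bot,
    lr_bot hB hP] at h0
  exact h0

/-- Watanabe: the number of characters. -/
theorem card_eq (hM : IsPModular p M) (hR : ∀ (G : Type u) [Group G] [Finite G], RankStatement p M G)
    {B : Set (IrrCharacter G)} (hB : IsPBlock M B) {P : Subgroup G}
    {e : MonoidAlgebra (ResField M) G} (hP : PairOf p (ebar hB) P e) (hno : NoExt p P e)
    (hab : ∀ x ∈ P, ∀ y ∈ P, x * y = y * x) {u : G} (hu : u ∈ P)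
    (hfix : ∀ y ∈ pairStab P e, y * u * y⁻¹ = u) {H : Subgroup G}
    (hH : H = Subgroup.centralizer (Subgroup.zpowers u : Set G)) {b : Set (IrrCharacter H)}
    (hb : IsPBlock M b) (hbe : eIn hb = below p P e (Subgroup.zpowers u)) :
    Nat.card B = Nat.card b := by
  obtain ⟨hP', hno', hst⟩ := local_pair hH hP hno hab (below_sle hP.pair (Subgroup.zpowers_le.2 hu))
  have hbb : ebar hb = down H (below p P e (Subgroup.zpowers u)) := by rw [← hbe, eIn, down_up]
  rw [← hbb] at hP'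
  have habH : ∀ x ∈ P.subgroupOf H, ∀ y ∈ P.subgroupOf H, x * y = y * x := fun x hx y hy =>
    Subtype.ext (hab _ hx _ hy)
  have hPH : P ≤ H := fun x hx => hH ▸
    Subgroup.mem_centralizer_iff.2 fun q hq => hab q (Subgroup.zpowers_le.2 hu hq) x hx
  have hSH : pairStab P e ≤ H := fun y hy => by
    rw [hH, Subgroup.zpowers_eq_closure, Subgroup.centralizer_closure]
    exact Subgroup.mem_centralizer_singleton_iff.2 (mul_inv_eq_iff_eq_mul.1 (hfix y hy))
  have hback : ∀ y (hy : y ∈ pairStab P e), (⟨y, hSH hy⟩ : H) ∈ pairStab (P.subgroupOf H) (down H e) := by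
    intro y hy
    refine ⟨Subgroup.mem_normalizer_iff.2 fun w => Subgroup.mem_normalizer_iff.1 hy.1 (w : G),
      up_injective H ?_⟩
    rw [up_conjA, up_down (hP.pair.block.mem.supp.mono
      (hH ▸ centralizer_anti (Subgroup.zpowers_le.2 hu))), hy.2]
  obtain ⟨T, φ, hT⟩ := exists_sectionsData hM hB hP hno hab
  obtain ⟨T', φ', hT'⟩ := exists_sectionsData hM hb hP' hno' habH
  choose σ hσT yσ hyσ hσ using fun s (hs : s ∈ T') => hT.surj (φ' s : G) (hT'.mem s hs)
  rw [hT.card, hT'.card]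
  refine (Finset.sum_bij σ (fun s hs => hσT s hs) (fun s hs t ht hst' => ?_) (fun s hs => ?_)
    fun s hs => ?_).symm
  · refine hT'.inj s hs t ht ⟨yσ t ht * (yσ s hs)⁻¹, hSH (mul_mem (hyσ t ht) (inv_mem (hyσ s hs)))⟩
      (hback _ (mul_mem (hyσ t ht) (inv_mem (hyσ s hs)))) (Subtype.ext ?_)
    show yσ t ht * (yσ s hs)⁻¹ * (φ' s : G) * (yσ t ht * (yσ s hs)⁻¹)⁻¹ = φ' t
    rw [← hσ s hs, ← hσ t ht, hst']
    group
  · obtain ⟨r, hr, y, hy, hyr⟩ := hT'.surj ⟨φ s, hPH (hT.mem s hs)⟩ (hT.mem s hs)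
    have hyr' : (y : G) * φ' r * (y : G)⁻¹ = φ s := congrArg Subtype.val hyr
    refine ⟨r, hr, hT.inj _ (hσT r hr) s hs ((y : G) * yσ r hr) (mul_mem (hst y hy) (hyσ r hr)) ?_⟩
    calc (y : G) * yσ r hr * φ (σ r hr) * ((y : G) * yσ r hr)⁻¹
        = (y : G) * (yσ r hr * φ (σ r hr) * (yσ r hr)⁻¹) * (y : G)⁻¹ := by group
      _ = φ s := by rw [hσ r hr, hyr']
  · rw [hT'.rank_eq hP'.pair hs, lr_local hP hno hab hu hH (φ' s) (hT'.mem s hs),
      ← lr_step hP hno hab hu hfix (a := (φ' s : G)) (hT'.mem s hs) (hR _), hT.rank_eq hP.pair (hσT s hs), ← hσ s hs,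
      ← conjSub_zpowers]
    exact lr_conj hP.pair (Subgroup.zpowers_le.2 (hT.mem _ (hσT s hs))) (hyσ s hs)

end CfsgLib.BlockRank.Watanabe
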