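import Cfsg.Agent.Lib.BlockRank.Watanabe.LocalRank
import Cfsg.Agent.Lib.BlockRank.AbelianSections
import Cfsg.Agent.Lib.BlockRank.RankOneMajor

/-!
The subsections of a block with abelian defect group, with the pairs they come from, and the
diagonal contributions.
-/

set_option autoImplicit false
set_option maxHeartbeats 1600000
set_option synthInstance.maxHeartbeats 400000

open Cfsg CfsgLib.Blocks CfsgLib.Blocks.Pairs
open scoped Classical ComplexConjugate

namespace CfsgLib.BlockRank.Watanabe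

universe u

variable {G : Type u} [Group G] [Finite G] {p : ℕ} [Fact p.Prime] {M : Ideal AlgInt} [M.IsMaximal]

/-- The pair at `Q` below `(P, e)`. -/
noncomputable def below (p : ℕ) (P : Subgroup G) (e : MonoidAlgebra (ResField M) G)
    (Q : Subgroup G) : MonoidAlgebra (ResField M) G :=
  if h : ∃ f, SLE p Q f P e then h.choose else 0

/-- The rank of the block at `Q` below `(P, e)`. -/
noncomputable def lr (p : ℕ) (P : Subgroup G) (e : MonoidAlgebra (ResField M) G)
    (Q : Subgroup G) : ℕ :=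
  rk p (Subgroup.centralizer (Q : Set G)) (below p P e Q)

/-- The index type of subsections. -/
abbrev SecIdx (G : Type u) [Group G] : Type u :=
  Σ x : G, Set (IrrCharacter (Subgroup.centralizer ({x} : Set G)))

/-- The scaled contribution of a subsection to a character with itself. -/
noncomputable def diag (p : ℕ) (s : SecIdx G) (χ : IrrCharacter G) : ℂ :=
  haveI := Fintype.ofFinite G
  contrib p 0 s.1 s.2 χ χ

variable [CharP (ResField M) p]

theorem below_sle {P Q : Subgroup G} {e : MonoidAlgebra (ResField M) G} (hP : IsPair p P e)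
    (hQ : Q ≤ P) : SLE p Q (below p P e Q) P e := by
  have h := (existsUnique_sle hP hQ).1
  rw [below, dif_pos h]
  exact h.choose_spec

theorem below_eq {P Q : Subgroup G} {e f : MonoidAlgebra (ResField M) G} (hP : IsPair p P e)
    (h : SLE p Q f P e) : below p P e Q = f :=
  SLE.unique hP (below_sle hP h.le) h

/-- The rank is invariant under the inertial group. -/
theorem lr_conj {P Q : Subgroup G} {e : MonoidAlgebra (ResField M) G} (hP : IsPair p P e)
    (hQ : Q ≤ P) {y : G} (hy : y ∈ pairStab P e) : lr p P e (conjSub y Q) = lr p P e Q := by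
  have h := (below_sle hP hQ).conj y
  rw [conjSub_eq_of_mem_normalizer hy.1, hy.2] at h
  rw [lr, lr, below_eq hP h, rk_congr (centralizer_conjSub y Q),
    rk_conj y ((below_sle hP hQ).pair_left hP).block]

/-- Subgroups with the same centralizer have the same rank. -/
theorem lr_eq_of_centralizer_eq {P Q A : Subgroup G} {e : MonoidAlgebra (ResField M) G}
    (hP : IsPair p P e) (hab : ∀ x ∈ P, ∀ y ∈ P, x * y = y * x) (hQA : Q ≤ A) (hAP : A ≤ P)
    (hC : Subgroup.centralizer (A : Set G) = Subgroup.centralizer (Q : Set G)) :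
    lr p P e Q = lr p P e A := by
  have hN : A ≤ Subgroup.normalizer (Q : Set G) := fun a ha =>
    Subgroup.centralizer_le_normalizer _ (Subgroup.mem_centralizer_iff.2 fun q hq =>
      hab q ((hQA.trans hAP) hq) a (hAP ha))
  rw [lr, lr, sle_eq_of_centralizer_eq hP hQA hN hC (below_sle hP (hQA.trans hAP))
    (below_sle hP hAP), rk_congr hC]

/-- At the trivial subgroup the rank is that of the block. -/
theorem lr_bot {B : Set (IrrCharacter G)} (hB : IsPBlock M B) {P : Subgroup G}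
    {e : MonoidAlgebra (ResField M) G} (hP : PairOf p (ebar hB) P e) :
    lr p P e ⊥ = blockRank p B := by
  have htop : Subgroup.centralizer ((⊥ : Subgroup G) : Set G) = ⊤ :=
    (Subgroup.eq_top_iff' _).2 fun y => Subgroup.mem_centralizer_iff.2 fun q hq => by
      rw [Subgroup.coe_bot, Set.mem_singleton_iff] at hq
      rw [hq, one_mul, mul_one]
  have hf := (SLE.pairOf_iff (below_sle hP.pair (bot_le : (⊥ : Subgroup G) ≤ P))).1 hP
  have hfb : IsBlockIdem (⊤ : Subgroup G) (below p P e ⊥) := htop ▸ hf.pair.block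
  have h1 := hf.br
  rw [trunc_eq_self (htop.symm ▸ fun x hx => absurd (Subgroup.mem_top x) hx)] at h1
  have heq : ebar hB = below p P e ⊥ :=
    (isBlockIdem_ebar hB).eq_of_mul_ne_zero hfb (by rw [h1]; exact hfb.ne_zero)
  let φ : (⊤ : Subgroup G) ≃* G := Subgroup.topEquiv
  have hb' := isPBlock_pullSet φ hB
  have he : eIn hb' = below p P e ⊥ := by
    rw [← heq]
    ext g
    rw [coeff_eIn, coeff_ebar]
    congr 1
    apply Subtype.ext
    simp [subgroupBlockCoeff, blockCoeff_pullSet, φ]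
  rw [lr, rk_congr htop, rk_eq hb' he, blockRank_pullSet]

/-- The subsections of a block with an abelian maximal pair. -/
structure Sections (p : ℕ) (M : Ideal AlgInt) [M.IsMaximal] (B : Set (IrrCharacter G))
    (P : Subgroup G) (e : MonoidAlgebra (ResField M) G) (T : Finset (SecIdx G))
    (φ : SecIdx G → G) : Prop where
  card : Nat.card B = ∑ s ∈ T, blockRank p s.2
  mem : ∀ s ∈ T, φ s ∈ P
  surj : ∀ u ∈ P, ∃ s ∈ T, ∃ y ∈ pairStab P e, y * φ s * y⁻¹ = u
  inj : ∀ s₁ ∈ T, ∀ s₂ ∈ T, ∀ y ∈ pairStab P e, y * φ s₁ * y⁻¹ = φ s₂ → s₁ = s₂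
  pelem : ∀ s ∈ T, ∃ k : ℕ, orderOf s.1 = p ^ k
  induced : ∀ s ∈ T, IsInducedBlock M (Subgroup.centralizer ({s.1} : Set G)) s.2 B
  major : ∀ s ∈ T, blockDefect p s.2 = blockDefect p B
  link : ∀ s ∈ T, ∃ g : G, φ s = g * s.1 * g⁻¹ ∧ ∃ hb : IsPBlock M s.2,
    SLE p (Subgroup.zpowers (φ s)) (conjA g (eIn hb)) P e
  total : ∀ χ ∈ B, ∑ s ∈ T, diag p s χ = 1
  complete : ∃ X : Finset G, (∀ x ∈ X, ∃ k : ℕ, orderOf x = p ^ k) ∧
    (∀ g : G, (∃ k : ℕ, orderOf g = p ^ k) → ∃! x, x ∈ X ∧ IsConj g x) ∧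
    ∀ s : SecIdx G, s ∈ T ↔
      s.1 ∈ X ∧ IsInducedBlock M (Subgroup.centralizer ({s.1} : Set G)) s.2 B

theorem Sections.rank_eq {B : Set (IrrCharacter G)} {P : Subgroup G}
    {e : MonoidAlgebra (ResField M) G} {T : Finset (SecIdx G)} {φ : SecIdx G → G}
    (h : Sections p M B P e T φ) (hP : IsPair p P e) {s : SecIdx G} (hs : s ∈ T) :
    blockRank p s.2 = lr p P e (Subgroup.zpowers (φ s)) := by
  obtain ⟨g, hg, hb, hle⟩ := h.link s hs
  have hC : Subgroup.centralizer (Subgroup.zpowers (φ s) : Set G) =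
      conjSub g (Subgroup.centralizer ({s.1} : Set G)) := by
    rw [hg, ← conjSub_zpowers, centralizer_conjSub, Subgroup.zpowers_eq_closure,
      Subgroup.centralizer_closure]
  rw [lr, below_eq hP hle, rk_congr hC, rk_conj g (isBlockIdem_eIn hb), rk_eq hb rfl]

/-- Subsections exist. -/
theorem exists_sectionsData (hM : IsPModular p M) {B : Set (IrrCharacter G)}
    (hB : IsPBlock M B) {P : Subgroup G} {e : MonoidAlgebra (ResField M) G}
    (hP : PairOf p (ebar hB) P e) (hno : NoExt p P e) (hab : ∀ x ∈ P, ∀ y ∈ P, x * y = y * x) :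
    ∃ (T : Finset (SecIdx G)) (φ : SecIdx G → G), Sections p M B P e T φ := by
  have hGf := Fintype.ofFinite G
  have hp : p.Prime := Fact.out
  have hpP := hP.pair.pgroup
  have hmaxR := maxR_of_noExt hP hno
  have hcardP : Nat.card P = p ^ blockDefect p B :=
    card_defectGroup hM hB ((isDefectGroup_iff_maxR hM hB).2 hmaxR)
  let X : Finset G := (Finset.univ.image fun g : G => Quotient.out (ConjClasses.mk g)).filter
    fun x => ∃ k : ℕ, orderOf x = p ^ k
  have hout : ∀ g : G, IsConj g (Quotient.out (ConjClasses.mk g)) := fun g =>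
    (ConjClasses.mk_eq_mk_iff_isConj.1 (Quotient.out_eq (ConjClasses.mk g))).symm
  have hX : ∀ x ∈ X, ∃ k : ℕ, orderOf x = p ^ k := fun x hx => (Finset.mem_filter.1 hx).2
  have hXrep : ∀ g : G, (∃ k : ℕ, orderOf g = p ^ k) → ∃! x, x ∈ X ∧ IsConj g x := by
    intro g ⟨k, hk⟩
    refine ⟨Quotient.out (ConjClasses.mk g), ⟨Finset.mem_filter.2
      ⟨Finset.mem_image.2 ⟨g, Finset.mem_univ _, rfl⟩, k, ?_⟩, hout g⟩, ?_⟩
    · obtain ⟨c, hc⟩ := isConj_iff.1 (hout g)
      rw [← hc, ← hk]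
      exact MulEquiv.orderOf_eq (MulAut.conj c) g
    · rintro y ⟨hy, hgy⟩
      obtain ⟨g', -, rfl⟩ := Finset.mem_image.1 (Finset.mem_filter.1 hy).1
      rw [show ConjClasses.mk g = ConjClasses.mk g' from
        ConjClasses.mk_eq_mk_iff_isConj.2 (hgy.trans (hout g').symm)]
  let S := fun x : G => {b : Set (IrrCharacter (Subgroup.centralizer ({x} : Set G))) |
    IsInducedBlock M (Subgroup.centralizer ({x} : Set G)) b B}
  let T : Finset (SecIdx G) := X.sigma fun x => (S x).toFinset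
  have hk : Nat.card B = ∑ s ∈ T, blockRank p s.2 := by
    rw [card_eq_sum_sections hM hB X hX hXrep, Finset.sum_sigma]
    exact Finset.sum_congr rfl fun x _ => finsum_mem_eq_toFinset_sum _ _
  have hmem : ∀ s, s ∈ T ↔ s.1 ∈ X ∧
      IsInducedBlock M (Subgroup.centralizer ({s.1} : Set G)) s.2 B := fun s => by
    simp [T, S, Finset.mem_sigma]
  have hex : ∀ s, ∃ g : G, s ∈ T → ∃ hb : IsPBlock M s.2, g * s.1 * g⁻¹ ∈ P ∧
      SLE p (Subgroup.zpowers (g * s.1 * g⁻¹)) (conjA g (eIn hb)) P e := by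
    intro s
    by_cases hs : s ∈ T
    · obtain ⟨hsX, hsI⟩ := (hmem s).1 hs
      have hz := isPGroup_zpowers (hX _ hsX)
      have hpair := (isInducedBlock_singleton_iff hM hz hB hsI.1).1 hsI
      obtain ⟨g, hg⟩ := exists_conj_sle hP hno hpair
      rw [conjSub_zpowers] at hg
      exact ⟨g, fun _ => ⟨hsI.1, hg.le (Subgroup.mem_zpowers _), hg⟩⟩
    · exact ⟨1, fun h => absurd h hs⟩
  choose gg hgg using hex
  refine ⟨T, fun s => gg s * s.1 * (gg s)⁻¹,
    { card := hk
      mem := fun s hs => (hgg s hs).2.1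
      surj := ?_
      inj := ?_
      pelem := fun s hs => hX _ ((hmem s).1 hs).1
      induced := fun s hs => ((hmem s).1 hs).2
      major := ?_
      complete := ⟨X, hX, hXrep, hmem⟩
      link := fun s hs => ⟨gg s, rfl, (hgg s hs).1, (hgg s hs).2.2⟩
      total := ?_ }⟩
  · intro u hu
    have huz : Subgroup.zpowers u ≤ P := Subgroup.zpowers_le.2 hu
    obtain ⟨f, hf⟩ := (existsUnique_sle hP.pair huz).1
    have hu' : ∃ k : ℕ, orderOf u = p ^ k := by
      obtain ⟨k, hk⟩ := IsPGroup.iff_orderOf.1 hpP ⟨u, hu⟩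
      exact ⟨k, by rw [← hk, Subgroup.orderOf_mk]⟩
    obtain ⟨x, ⟨hxX, hux⟩, -⟩ := hXrep u hu'
    obtain ⟨h, rfl⟩ := isConj_iff.1 hux
    have hfB := (SLE.pairOf_iff hf).1 hP
    have hfB' := hfB.conj h
    rw [conjSub_zpowers] at hfB'
    have hC : Subgroup.centralizer (Subgroup.zpowers (h * u * h⁻¹) : Set G) =
        Subgroup.centralizer ({h * u * h⁻¹} : Set G) := by
      rw [Subgroup.zpowers_eq_closure, Subgroup.centralizer_closure]
    obtain ⟨b, hb, hbe⟩ := exists_eIn_eq (hC ▸ hfB'.pair.block)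
    have hs : (⟨h * u * h⁻¹, b⟩ : SecIdx G) ∈ T := by
      rw [hmem]
      exact ⟨hxX, (isInducedBlock_singleton_iff hM hfB'.pair.pgroup hB hb).2 (hbe ▸ hfB')⟩
    refine ⟨_, hs, ?_⟩
    obtain ⟨_, _, h2⟩ := hgg _ hs
    rw [hbe, conjA_conjA] at h2
    have hgu : gg ⟨h * u * h⁻¹, b⟩ * (h * u * h⁻¹) * (gg ⟨h * u * h⁻¹, b⟩)⁻¹ =
        gg ⟨h * u * h⁻¹, b⟩ * h * u * (gg ⟨h * u * h⁻¹, b⟩ * h)⁻¹ := by group
    rw [hgu] at h2
    obtain ⟨y, hy, hyu⟩ := exists_stab_of_fusion hP hno hab hf h2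
    refine ⟨y⁻¹, inv_mem hy, ?_⟩
    dsimp only
    rw [hgu, ← hyu]
    group
  · rintro ⟨x₁, b₁⟩ h₁ ⟨x₂, b₂⟩ h₂ y hy heq
    dsimp only at heq
    obtain ⟨hb₁, -, hl1⟩ := hgg _ h₁
    obtain ⟨hb₂, -, hl2⟩ := hgg _ h₂
    set g₁ := gg ⟨x₁, b₁⟩
    set g₂ := gg ⟨x₂, b₂⟩
    have heq' : y * g₁ * x₁ * (y * g₁)⁻¹ = g₂ * x₂ * g₂⁻¹ := by rw [← heq]; group
    have hx : x₁ = x₂ := by
      refine (hXrep x₁ (hX _ ((hmem _).1 h₁).1)).unique ⟨((hmem _).1 h₁).1, IsConj.refl _⟩
        ⟨((hmem _).1 h₂).1, isConj_iff.2 ⟨g₂⁻¹ * (y * g₁), ?_⟩⟩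
      calc _ = g₂⁻¹ * (y * g₁ * x₁ * (y * g₁)⁻¹) * g₂ := by group
        _ = x₂ := by rw [heq']; group
    subst hx
    have hl1' := hl1.conj y
    rw [conjSub_zpowers, conjA_conjA, conjSub_eq_of_mem_normalizer hy.1, hy.2,
      show y * (g₁ * x₁ * g₁⁻¹) * y⁻¹ = y * g₁ * x₁ * (y * g₁)⁻¹ by group, heq'] at hl1'
    have h3 := SLE.unique hP.pair hl1' hl2
    have h4 : conjA (g₂⁻¹ * (y * g₁)) (eIn hb₁) = eIn hb₂ := by
      rw [← conjA_conjA, h3, conjA_inv_conjA]
    have hc : g₂⁻¹ * (y * g₁) ∈ Subgroup.centralizer ({x₁} : Set G) := by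
      rw [Subgroup.mem_centralizer_singleton_iff]
      calc _ = g₂⁻¹ * (y * g₁ * x₁ * (y * g₁)⁻¹) * (y * g₁) := by group
        _ = _ := by rw [heq']; group
    rw [conjFixed_iff.mp (isBlockIdem_eIn hb₁).mem.fixed _ hc] at h4
    obtain rfl : b₁ = b₂ := eIn_injective hb₁ hb₂ h4
    rfl
  · intro s hs
    obtain ⟨hsX, hsI⟩ := (hmem s).1 hs
    obtain ⟨_, -, hgle⟩ := hgg s hs
    set H := Subgroup.centralizer ({s.1} : Set G) with hH
    have hH' : H = Subgroup.centralizer (Subgroup.zpowers s.1 : Set G) := by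
      rw [hH, Subgroup.zpowers_eq_closure, Subgroup.centralizer_closure]
    obtain ⟨x, hx⟩ : ∃ x, x = (gg s)⁻¹ := ⟨_, rfl⟩
    have hle' : SLE p (Subgroup.zpowers s.1) (eIn hsI.1) (conjSub x P) (conjA x e) := by
      have := hgle.conj x
      rw [← conjSub_zpowers, conjSub_conjSub, hx, inv_mul_cancel, conjSub_one,
        conjA_inv_conjA] at this
      exact hx ▸ this
    have hP₁ : PairOf p (ebar hB) (conjSub x P) (conjA x e) := hP.conj x
    have hno₁ : NoExt p (conjSub x P) (conjA x e) :=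
      (hmaxR.conj (isBlockIdem_ebar hB).mem x).noExt hP₁
    have hab₁ : ∀ a ∈ conjSub x P, ∀ b ∈ conjSub x P, a * b = b * a := by
      rintro _ ⟨a, ha, rfl⟩ _ ⟨b, hb, rfl⟩
      rw [← map_mul, hab a ha b hb, map_mul]
    obtain ⟨hP', hno', -⟩ := local_pair hH' hP₁ hno₁ hab₁ hle'
    rw [show down H (eIn hsI.1) = ebar hsI.1 by rw [eIn, down_up]] at hP'
    refine Nat.pow_right_injective hp.two_le ?_
    show p ^ blockDefect p s.2 = p ^ blockDefect p B
    rw [← card_defectGroup hM hsI.1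
      ((isDefectGroup_iff_maxR hM hsI.1).2 (maxR_of_noExt hP' hno')), ← hcardP,
      ← card_map_conj x P]
    refine Nat.card_congr (Subgroup.subgroupOfEquivOfLe ?_).toEquiv
    intro a ha
    show a ∈ Subgroup.centralizer ({s.1} : Set G)
    rw [Subgroup.mem_centralizer_singleton_iff]
    exact hab₁ a ha s.1 (hle'.le (Subgroup.mem_zpowers _))
  · -- the contributions add up to one
    intro χ hχ
    let F : G → ℂ := fun g => (χ : G → ℂ) g * conj ((χ : G → ℂ) g)
    have hF : IsClassFunction G F := fun g h => by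
      show _ * _ = _ * _
      rw [CfsgLib.Char.IsIrrCharacter.isClassFunction χ.2 g h]
    have hsum : ∑ g, F g = (Nat.card G : ℂ) := by
      have h := CfsgLib.Char.classInner_irr_self χ.2
      rw [classInner, inv_mul_eq_iff_eq_mul₀ (Nat.cast_ne_zero.mpr Nat.card_pos.ne'), mul_one] at h
      exact h
    rw [sum_eq_sum_sectionSum (p := p) hF X hX hXrep] at hsum
    apply mul_left_cancel₀ (Nat.cast_ne_zero.mpr Nat.card_pos.ne' : (Nat.card G : ℂ) ≠ 0)
    rw [mul_one, Finset.sum_sigma, Finset.mul_sum]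
    refine Eq.trans (Finset.sum_congr rfl fun x hx => ?_) hsum
    have := Fintype.ofFinite (Subgroup.centralizer ({x} : Set G))
    have := Fintype.ofFinite {b : Set (IrrCharacter (Subgroup.centralizer ({x} : Set G))) // IsPBlock M b}
    have hterm : ∀ b ∈ (S x).toFinset, diag p ⟨x, b⟩ χ =
        (Nat.card (Subgroup.centralizer ({x} : Set G)) : ℂ)⁻¹ *
          regNorm p b (fun c : Subgroup.centralizer ({x} : Set G) => (χ : G → ℂ) (x * c)) :=
      fun b _ => by
        simp only [diag, contrib, regNorm_eq, regPair, pow_zero, Nat.cast_one, one_mul]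
        congr 1
        exact Finset.sum_congr (by ext; simp [regSet]) fun _ _ => by congr!
    rw [Finset.sum_congr rfl hterm, ← Finset.mul_sum, sectionSum_eq_sum_regSet F rfl]
    show _ = _ * ∑ s ∈ regSet (G := Subgroup.centralizer ({x} : Set G)) p,
      (χ : G → ℂ) (x * (s : _)) * conj ((χ : G → ℂ) (x * (s : _)))
    rw [sum_regSet_eq_sum_regNorm (p := p) hM (isClassFunction_translate rfl χ)]
    rw [← mul_assoc]
    congr 1
    · rw [← CfsgLib.Char.card_isConj_mul_card_centralizer x]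
      push_cast
      field_simp
    · refine (Finset.sum_bij_ne_zero (fun b _ _ => b.1) (fun b _ hb => ?_) (fun a _ _ b _ _ h => Subtype.ext h)
        (fun b hb h0 => ⟨⟨b, (Set.mem_toFinset.1 hb).1⟩, Finset.mem_univ _, h0, rfl⟩)
        fun b _ _ => rfl).symm
      rw [Set.mem_toFinset]
      obtain ⟨B', hB'⟩ := exists_isInducedBlock_centralizer hM rfl (hX x hx) b.2
      by_contra hcon
      refine hb (regNorm_translate_eq_zero hM rfl (hX x hx) b.2 hB' fun hχ' => hcon ?_)
      show IsInducedBlock M _ b.1 B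
      rwa [IsPBlock.eq_of_mem hB hB'.2.1 hχ hχ']

end CfsgLib.BlockRank.Watanabe
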